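import Mathlib

/-! The staircase basis of `R[t]/(e_i(t) - a_i)` over any commutative ring. -/

open Finset

namespace Groth.Agent.SymBasis86

universe u

section
variable {R : Type u} [CommRing R]

/-- exponent vectors -/
abbrev D (n : ℕ) := Π i : Fin n, Fin (n - (i : ℕ))

/-- the relations -/
noncomputable def rel (n : ℕ) (a : ℕ → R) : Ideal (MvPolynomial (Fin n) R) :=
  Ideal.span (Set.range fun i : Fin n =>
    MvPolynomial.esymm (Fin n) R ((i : ℕ) + 1) - MvPolynomial.C (a i))

/-- the staircase combination -/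
noncomputable def comb (n : ℕ) (γ : D n → R) : MvPolynomial (Fin n) R :=
  ∑ d : D n, MvPolynomial.C (γ d) * ∏ i : Fin n, MvPolynomial.X i ^ ((d i : ℕ))

/-- `q 0 = 1`, `q (k+1) = a k - X * q k`. -/
noncomputable def q (a : ℕ → R) : ℕ → Polynomial R
  | 0 => 1
  | k + 1 => Polynomial.C (a k) - Polynomial.X * q a k

lemma q_spec [Nontrivial R] (a : ℕ → R) :
    ∀ k, (q a k).natDegree ≤ k ∧ (q a k).coeff k = (-1) ^ k
  | 0 => by simp [q]
  | k + 1 => by
    obtain ⟨h1, h2⟩ := q_spec a k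
    constructor
    · refine (Polynomial.natDegree_sub_le _ _).trans (max_le ?_ ?_)
      · simp
      · refine Polynomial.natDegree_mul_le.trans ?_
        rw [Polynomial.natDegree_X]
        omega
    · simp [q, Polynomial.coeff_X_mul, h2, pow_succ, Polynomial.coeff_C]

/-- the monic normalisation of `q` -/
noncomputable def P (a : ℕ → R) (m : ℕ) : Polynomial R := Polynomial.C ((-1) ^ m) * q a m

lemma monic_P (a : ℕ → R) (m : ℕ) : (P a m).Monic := by
  rcases subsingleton_or_nontrivial R with h | h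
  · exact Subsingleton.elim _ _
  refine Polynomial.monic_of_natDegree_le_of_coeff_eq_one m ?_ ?_
  · exact (Polynomial.natDegree_C_mul_le _ _).trans (q_spec a m).1
  · rw [P, Polynomial.coeff_C_mul, (q_spec a m).2, ← mul_pow]
    simp

lemma natDegree_P [Nontrivial R] (a : ℕ → R) (m : ℕ) : (P a m).natDegree = m := by
  refine Polynomial.natDegree_eq_of_le_of_coeff_ne_zero
    ((Polynomial.natDegree_C_mul_le _ _).trans (q_spec a m).1) ?_
  rw [P, Polynomial.coeff_C_mul, (q_spec a m).2, ← mul_pow]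
  simp

lemma esymm_cons {S : Type*} [CommSemiring S] (s : Multiset S) (x : S) (k : ℕ) :
    (x ::ₘ s).esymm (k + 1) = s.esymm (k + 1) + x * s.esymm k := by
  simp [Multiset.esymm, Multiset.powersetCard_cons, Multiset.sum_map_mul_left]

lemma hom_esymm {S T : Type*} [CommSemiring S] [CommSemiring T] (f : S →+* T) (s : Multiset S)
    (k : ℕ) : f (s.esymm k) = (s.map f).esymm k := by
  simp [Multiset.esymm, map_multiset_sum, Multiset.powersetCard_map, map_multiset_prod,
    Function.comp_def, Multiset.map_map]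

lemma hom_mvEsymm_succ {n : ℕ} {T : Type*} [CommRing T]
    (f : MvPolynomial (Fin (n + 1)) R →+* T) (k : ℕ) :
    f (MvPolynomial.esymm (Fin (n + 1)) R (k + 1)) =
      ((univ : Finset (Fin n)).val.map fun i => f (MvPolynomial.X i.succ)).esymm (k + 1) +
        f (MvPolynomial.X 0) *
          ((univ : Finset (Fin n)).val.map fun i => f (MvPolynomial.X i.succ)).esymm k := by
  rw [MvPolynomial.esymm_eq_multiset_esymm, hom_esymm, Fin.univ_succ, Finset.cons_val,
    Multiset.map_cons, Multiset.map_cons, esymm_cons, Finset.map_val, Multiset.map_map,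
    Multiset.map_map]
  rfl

lemma esymm_map_zero {S : Type*} [CommSemiring S] {n : ℕ} (g : Fin n → S) :
    ((univ : Finset (Fin n)).val.map g).esymm 0 = 1 := by
  simp [Multiset.esymm]

lemma esymm_map_top {S : Type*} [CommSemiring S] {n : ℕ} (g : Fin n → S) :
    ((univ : Finset (Fin n)).val.map g).esymm (n + 1) = 0 := by
  simp [Multiset.esymm, Multiset.powersetCard_eq_empty]

end

section step
variable {R : Type u} [CommRing R] (n : ℕ) (a : ℕ → R)

local notation "R'" => AdjoinRoot (P a (n + 1))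

/-- the new coefficients -/
noncomputable def a' (k : ℕ) : R' := AdjoinRoot.mk (P a (n + 1)) (q a (k + 1))

/-- `mk (q k)` -/
noncomputable def qm (k : ℕ) : R' := AdjoinRoot.mk (P a (n + 1)) (q a k)

lemma qm_top : qm n a (n + 1) = 0 := by
  have h : (q a (n + 1)) = Polynomial.C ((-1) ^ (n + 1)) * P a (n + 1) := by
    rw [P, ← mul_assoc, ← map_mul, ← mul_pow]; simp
  rw [qm, h, map_mul, AdjoinRoot.mk_self, mul_zero]

lemma of_a (k : ℕ) : AdjoinRoot.of (P a (n + 1)) (a k) =
    qm n a (k + 1) + AdjoinRoot.root (P a (n + 1)) * qm n a k := by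
  simp [qm, q, AdjoinRoot.mk_C, AdjoinRoot.mk_X]

/-- evaluation of the first variable at the root -/
noncomputable def Φ : MvPolynomial (Fin (n + 1)) R →+* MvPolynomial (Fin n) R' :=
  MvPolynomial.eval₂Hom (MvPolynomial.C.comp (AdjoinRoot.of (P a (n + 1))))
    (Fin.cons (MvPolynomial.C (AdjoinRoot.root (P a (n + 1)))) MvPolynomial.X)

lemma Φ_C (r : R) : Φ n a (MvPolynomial.C r) = MvPolynomial.C (AdjoinRoot.of _ r) := by
  simp [Φ]

lemma Φ_zero : Φ n a (MvPolynomial.X 0) = MvPolynomial.C (AdjoinRoot.root _) := by simp [Φ]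

lemma Φ_succ (i : Fin n) : Φ n a (MvPolynomial.X i.succ) = MvPolynomial.X i := by simp [Φ]

/-- `e'_k - a'_k` lies in the ideal for all `k ≤ n + 1`. -/
lemma diff_mem (k : ℕ) (hk : k ≤ n + 1) :
    ((univ : Finset (Fin n)).val.map (MvPolynomial.X (R := R'))).esymm k -
      MvPolynomial.C (qm n a k) ∈ rel n (a' n a) := by
  rcases Nat.eq_zero_or_pos k with rfl | hpos
  · rw [esymm_map_zero]; simp [qm, q]
  rcases eq_or_lt_of_le hk with rfl | hlt
  · rw [esymm_map_top, qm_top]; simp
  obtain ⟨j, rfl⟩ : ∃ j, k = j + 1 := ⟨k - 1, by omega⟩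
  refine Ideal.subset_span ⟨⟨j, by omega⟩, ?_⟩
  rw [MvPolynomial.esymm_eq_multiset_esymm]
  rfl

lemma Φ_gen (i : Fin (n + 1)) :
    Φ n a (MvPolynomial.esymm (Fin (n + 1)) R ((i : ℕ) + 1) - MvPolynomial.C (a i)) ∈
      rel n (a' n a) := by
  rw [map_sub, hom_mvEsymm_succ, Φ_C, of_a, map_add, map_mul, Φ_zero]
  simp only [Φ_succ]
  have h1 := diff_mem n a ((i : ℕ) + 1) (by omega)
  have h2 := Ideal.mul_mem_left _ (MvPolynomial.C (AdjoinRoot.root (P a (n + 1))))
    (diff_mem n a (i : ℕ) (by omega))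
  have h3 := Ideal.add_mem _ h1 h2
  convert h3 using 1
  ring

lemma aeval_q_quot (k : ℕ) (hk : k ≤ n + 1) :
    Polynomial.eval₂ ((Ideal.Quotient.mk (rel (n + 1) a)).comp MvPolynomial.C)
      (Ideal.Quotient.mk (rel (n + 1) a) (MvPolynomial.X 0)) (q a k) =
    ((univ : Finset (Fin n)).val.map
      fun i => Ideal.Quotient.mk (rel (n + 1) a) (MvPolynomial.X i.succ)).esymm k := by
  induction k with
  | zero => rw [esymm_map_zero]; simp [q]
  | succ k ih =>
    rw [q, Polynomial.eval₂_sub, Polynomial.eval₂_C, Polynomial.eval₂_mul, Polynomial.eval₂_X,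
      ih (by omega), RingHom.comp_apply]
    have hmem : MvPolynomial.esymm (Fin (n + 1)) R (k + 1) - MvPolynomial.C (a k) ∈
        rel (n + 1) a := Ideal.subset_span ⟨⟨k, by omega⟩, rfl⟩
    have h := Ideal.Quotient.eq.2 hmem
    rw [← h, hom_mvEsymm_succ]
    ring

lemma root_ok :
    Polynomial.eval₂ ((Ideal.Quotient.mk (rel (n + 1) a)).comp MvPolynomial.C)
      (Ideal.Quotient.mk (rel (n + 1) a) (MvPolynomial.X 0)) (P a (n + 1)) = 0 := by
  rw [P, Polynomial.eval₂_mul, aeval_q_quot n a (n + 1) le_rfl, esymm_map_top, mul_zero]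

/-- the inverse map -/
noncomputable def Ψ : MvPolynomial (Fin n) R' →+* MvPolynomial (Fin (n + 1)) R ⧸ rel (n + 1) a :=
  MvPolynomial.eval₂Hom (AdjoinRoot.lift _ _ (root_ok n a))
    (fun i => Ideal.Quotient.mk (rel (n + 1) a) (MvPolynomial.X i.succ))

lemma Ψ_Φ (x : MvPolynomial (Fin (n + 1)) R) :
    Ψ n a (Φ n a x) = Ideal.Quotient.mk (rel (n + 1) a) x := by
  have h : (Ψ n a).comp (Φ n a) = Ideal.Quotient.mk (rel (n + 1) a) := by
    refine MvPolynomial.ringHom_ext (fun r => ?_) (Fin.cases ?_ fun i => ?_)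
    · simp [Φ_C, Ψ, AdjoinRoot.lift_of]
    · simp [Φ_zero, Ψ, AdjoinRoot.lift_root]
    · simp [Φ_succ, Ψ]
  exact congrArg (fun f => f x) h

lemma Ψ_rel : rel n (a' n a) ≤ RingHom.ker (Ψ n a) := by
  refine Ideal.span_le.2 ?_
  rintro _ ⟨i, rfl⟩
  simp only [SetLike.mem_coe, RingHom.mem_ker, map_sub, sub_eq_zero]
  rw [MvPolynomial.esymm_eq_multiset_esymm, hom_esymm, Multiset.map_map]
  simp only [Ψ, Function.comp_def, MvPolynomial.eval₂Hom_X', MvPolynomial.eval₂Hom_C, a',
    AdjoinRoot.lift_mk]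
  rw [aeval_q_quot n a _ (by omega)]

lemma mem_rel_iff (x : MvPolynomial (Fin (n + 1)) R) :
    x ∈ rel (n + 1) a ↔ Φ n a x ∈ rel n (a' n a) := by
  constructor
  · intro hx
    have : rel (n + 1) a ≤ Ideal.comap (Φ n a) (rel n (a' n a)) := by
      refine Ideal.span_le.2 ?_
      rintro _ ⟨i, rfl⟩
      exact Φ_gen n a i
    exact this hx
  · intro hx
    have := Ψ_rel n a hx
    rwa [RingHom.mem_ker, Ψ_Φ, Ideal.Quotient.eq_zero_iff_mem] at this

/-- `D (n+1) ≃ Fin (n+1) × D n` -/
def splitD : D (n + 1) ≃ Fin (n + 1) × D n where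
  toFun d := (⟨d 0, by have := (d 0).isLt; simpa using this⟩,
    fun i => ⟨d i.succ, by have := (d i.succ).isLt; simp at this ⊢; omega⟩)
  invFun p := Fin.cases (motive := fun i => Fin (n + 1 - (i : ℕ))) ⟨p.1, by have := p.1.isLt; simp; omega⟩
    (fun i => ⟨p.2 i, (p.2 i).isLt.trans_le (by simp)⟩)
  left_inv d := by
    funext i
    refine Fin.cases ?_ (fun j => ?_) i <;> simp
  right_inv p := by
    obtain ⟨e, d⟩ := p
    simp

lemma prod_split (e : Fin (n + 1)) (d : D n) :
    ∏ i : Fin (n + 1), (MvPolynomial.X i : MvPolynomial (Fin (n + 1)) R) ^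
        (((splitD n).symm (e, d) i : ℕ)) =
      MvPolynomial.X 0 ^ (e : ℕ) * ∏ i : Fin n, MvPolynomial.X i.succ ^ ((d i : ℕ)) := by
  rw [Fin.prod_univ_succ]
  simp [splitD]

/-- root-power combination -/
noncomputable def pack (γ : D (n + 1) → R) (d : D n) : R' :=
  ∑ e : Fin (n + 1), AdjoinRoot.of _ (γ ((splitD n).symm (e, d))) *
    AdjoinRoot.root _ ^ (e : ℕ)

lemma Φ_comb (γ : D (n + 1) → R) : Φ n a (comb (n + 1) γ) = comb n (pack n a γ) := by
  rw [comb, ← (splitD n).symm.sum_comp, Fintype.sum_prod_type, Finset.sum_comm, comb, map_sum]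
  refine Finset.sum_congr rfl fun d _ => ?_
  rw [map_sum, pack, map_sum, Finset.sum_mul]
  refine Finset.sum_congr rfl fun e _ => ?_
  rw [prod_split, map_mul, Φ_C, map_mul, map_pow, Φ_zero, map_mul, map_pow, map_prod]
  simp only [map_pow, Φ_succ]
  ring

/-- coefficients in the root basis are unique and exist -/
lemma root_basis (y : R') : ∃! c : Fin (n + 1) → R,
    ∑ e : Fin (n + 1), AdjoinRoot.of (P a (n + 1)) (c e) * AdjoinRoot.root _ ^ (e : ℕ) = y := by
  rcases subsingleton_or_nontrivial R with h | h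
  · haveI : Subsingleton R' := (AdjoinRoot.mk_surjective).subsingleton
    exact ⟨0, Subsingleton.elim _ _, fun _ _ => Subsingleton.elim _ _⟩
  let B := AdjoinRoot.powerBasis' (monic_P a (n + 1))
  have hd : B.dim = n + 1 := natDegree_P a (n + 1)
  let b := B.basis.reindex (finCongr hd)
  have hb : ∀ c : Fin (n + 1) → R, ∑ e, AdjoinRoot.of (P a (n + 1)) (c e) *
      AdjoinRoot.root _ ^ (e : ℕ) = ∑ e, c e • b e := fun c =>
    Finset.sum_congr rfl fun e _ => by
      rw [Algebra.smul_def, AdjoinRoot.algebraMap_eq]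
      simp only [b, Module.Basis.reindex_apply, B.basis_eq_pow]
      rfl
  refine ⟨b.equivFun y, ?_, fun c hc => ?_⟩
  · show _ = y
    rw [hb]; exact b.sum_equivFun y
  · change _ = y at hc
    rw [hb] at hc
    rw [← hc, ← b.equivFun_symm_apply, LinearEquiv.apply_symm_apply]

end step

theorem main : ∀ (n : ℕ) (R : Type u) [CommRing R] (a : ℕ → R),
    (∀ x : MvPolynomial (Fin n) R, ∃ γ : D n → R, x - comb n γ ∈ rel n a) ∧
      ∀ γ : D n → R, comb n γ ∈ rel n a → γ = 0
  | 0, R, _, a => by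
    have hrel : rel 0 a = ⊥ := by
      rw [rel, Set.range_eq_empty, Ideal.span_empty]
    have hc : ∀ γ : D 0 → R, comb 0 γ = MvPolynomial.C (γ default) := fun γ => by
      rw [comb, Fintype.sum_unique]; simp
    refine ⟨fun x => ?_, fun γ hγ => ?_⟩
    · obtain ⟨r, rfl⟩ := MvPolynomial.C_surjective (Fin 0) x
      exact ⟨fun _ => r, by rw [hc, sub_self]; exact Ideal.zero_mem _⟩
    · rw [hrel, Ideal.mem_bot, hc, MvPolynomial.C_eq_zero] at hγ
      funext d
      rw [Subsingleton.elim d default, hγ, Pi.zero_apply]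
  | n + 1, R, _, a => by
    obtain ⟨ih1, ih2⟩ := main n (AdjoinRoot (P a (n + 1))) (a' n a)
    refine ⟨fun x => ?_, fun γ hγ => ?_⟩
    · obtain ⟨δ, hδ⟩ := ih1 (Φ n a x)
      choose c hc using fun d => (root_basis n a (δ d)).exists
      refine ⟨fun u => c (splitD n u).2 (splitD n u).1, ?_⟩
      rw [mem_rel_iff, map_sub, Φ_comb]
      have : pack n a (fun u => c (splitD n u).2 (splitD n u).1) = δ := by
        funext d
        rw [pack, ← hc d]
        simp
      rwa [this]
    · rw [mem_rel_iff, Φ_comb] at hγ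
      have h0 := ih2 _ hγ
      funext u
      obtain ⟨⟨e, d⟩, rfl⟩ := (splitD n).symm.surjective u
      have h1 := (root_basis n a 0).unique
        (y₁ := fun e => γ ((splitD n).symm (e, d))) (y₂ := 0) (congrFun h0 d) (by simp)
      exact congrFun h1 e

variable {R : Type u} [CommRing R] {n : ℕ}

theorem rel_congr {a b : ℕ → R} (h : ∀ i : Fin n, a i = b i) : rel n a = rel n b := by
  simp only [rel, h]

/-- extend a tuple -/
def ext0 (a : Fin n → R) : ℕ → R := fun k => if h : k < n then a ⟨k, h⟩ else 0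

theorem rel_ext0 (a : Fin n → R) : rel n (ext0 a) = Ideal.span (Set.range fun i : Fin n =>
    MvPolynomial.esymm (Fin n) R ((i : ℕ) + 1) - MvPolynomial.C (a i)) := by
  simp [rel, ext0]

theorem comb_sub (α β : D n → R) : comb n α - comb n β = comb n (α - β) := by
  simp [comb, ← Finset.sum_sub_distrib, sub_mul]

/-- the ideal generated by `J` in the quotient consists of combinations with coefficients in `J` -/
theorem exists_of_mem (a : ℕ → R) (J : Ideal R) {x : MvPolynomial (Fin n) R}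
    (hx : x ∈ rel n a ⊔ Ideal.map MvPolynomial.C J) :
    ∃ j : D n → R, (∀ d, j d ∈ J) ∧ x - comb n j ∈ rel n a := by
  obtain ⟨y, hy, z, hz, rfl⟩ := Submodule.mem_sup.1 hx
  suffices ∃ j : D n → R, (∀ d, j d ∈ J) ∧ z - comb n j ∈ rel n a by
    obtain ⟨j, hj, hj'⟩ := this
    exact ⟨j, hj, by rw [add_sub_assoc]; exact Ideal.add_mem _ hy hj'⟩
  rw [MvPolynomial.mem_map_C_iff] at hz
  rw [z.as_sum]
  have key : ∀ s : Finset (Fin n →₀ ℕ), ∃ j : D n → R, (∀ d, j d ∈ J) ∧
      (∑ e ∈ s, MvPolynomial.monomial e (z.coeff e)) - comb n j ∈ rel n a := by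
    intro s
    induction s using Finset.induction_on with
    | empty => exact ⟨0, fun _ => J.zero_mem, by simp [comb]⟩
    | insert e s he ih =>
      obtain ⟨j, hj, hj'⟩ := ih
      obtain ⟨γ, hγ⟩ := (main n R a).1 (MvPolynomial.monomial e 1)
      refine ⟨fun d => z.coeff e * γ d + j d, fun d => J.add_mem (J.mul_mem_right _ (hz e)) (hj d), ?_⟩
      rw [Finset.sum_insert he]
      have h : comb n (fun d => z.coeff e * γ d + j d) =
          MvPolynomial.C (z.coeff e) * comb n γ + comb n j := by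
        simp [comb, mul_sum, ← sum_add_distrib, add_mul, mul_assoc]
      have h2 := Ideal.add_mem _ (Ideal.mul_mem_left _ (MvPolynomial.C (z.coeff e)) hγ) hj'
      rw [h]
      convert h2 using 1
      rw [mul_sub, MvPolynomial.C_mul_monomial, mul_one]
      ring
  exact key _

theorem mem_of_coeff (a : ℕ → R) (J : Ideal R) {j : D n → R} (hj : ∀ d, j d ∈ J) :
    comb n j ∈ rel n a ⊔ Ideal.map MvPolynomial.C J :=
  Ideal.sum_mem _ fun d _ => Ideal.mul_mem_right _ _
    (Ideal.mem_sup_right (Ideal.mem_map_of_mem _ (hj d)))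

theorem coeff_mem_iff (a : ℕ → R) (J : Ideal R) (γ : D n → R) :
    comb n γ ∈ rel n a ⊔ Ideal.map MvPolynomial.C J ↔ ∀ d, γ d ∈ J := by
  refine ⟨fun h d => ?_, mem_of_coeff a J⟩
  obtain ⟨j, hj, hj'⟩ := exists_of_mem a J h
  rw [comb_sub] at hj'
  have := congrFun ((main n R a).2 _ hj') d
  rw [Pi.sub_apply, Pi.zero_apply, sub_eq_zero] at this
  rw [this]; exact hj d

end Groth.Agent.SymBasis86
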